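import Groth.Prelude.Def_EGA41
import Groth.Agent.PP16Lib.AdicTopLift
import Mathlib

/-!
# Adic formal smoothness: base change, descent along faithfully flat projective algebras, reduction
modulo an ideal of definition
-/

set_option autoImplicit false
universe u

open TensorProduct

namespace Groth.Agent.AdicFSDescent

variable {A B : Type u} [CommRing A] [CommRing B] [Algebra A B]

theorem baseChange {A' : Type u} [CommRing A'] [Algebra A A'] (𝔞 : Ideal A) (𝔟 : Ideal B)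
    (𝔞' : Ideal A') (hAA' : ∃ k : ℕ, (𝔞 ^ k).map (algebraMap A A') ≤ 𝔞')
    (hB : EGA41.IsFormallySmoothAdic A 𝔞 B 𝔟) :
    EGA41.IsFormallySmoothAdic A' 𝔞' (A' ⊗[A] B)
      (𝔞'.map (algebraMap A' (A' ⊗[A] B)) ⊔
        𝔟.map (Algebra.TensorProduct.includeRight : B →ₐ[A] A' ⊗[A] B).toRingHom) := by
  intro C _ _ J hJ ⟨k, hk⟩ u ⟨m, hm⟩
  letI : Algebra A C := Algebra.compHom C (algebraMap A A')
  haveI : IsScalarTower A A' C := IsScalarTower.of_algebraMap_eq fun _ => rfl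
  obtain ⟨k₀, hk₀⟩ := hAA'
  have hC : ∃ k : ℕ, (𝔞 ^ k).map (algebraMap A C) = ⊥ := by
    refine ⟨k₀ * k, ?_⟩
    rw [IsScalarTower.algebraMap_eq A A' C, ← Ideal.map_map, pow_mul, Ideal.map_pow, eq_bot_iff]
    exact (Ideal.map_mono (Ideal.pow_right_mono hk₀ k)).trans hk.le
  obtain ⟨v, hv⟩ := hB C J hJ hC
    ((u.restrictScalars A).comp Algebra.TensorProduct.includeRight) ⟨m, fun x hx => by
      refine hm _ (Ideal.pow_right_mono le_sup_right m ?_)
      rw [← Ideal.map_pow]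
      exact Ideal.mem_map_of_mem _ hx⟩
  refine ⟨Algebra.TensorProduct.lift (Algebra.ofId A' C) v fun _ _ => Commute.all _ _,
    Algebra.TensorProduct.ext' fun a b => ?_⟩
  rw [AlgHom.comp_apply, Algebra.TensorProduct.lift_tmul, map_mul,
    show a ⊗ₜ[A] b = algebraMap A' (A' ⊗[A] B) a * (1 ⊗ₜ b) by
      rw [Algebra.TensorProduct.algebraMap_apply, Algebra.TensorProduct.tmul_mul_tmul, mul_one,
        one_mul]; rfl,
    map_mul, AlgHom.commutes]
  congr 1
  exact AlgHom.congr_fun hv b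

theorem exists_retraction {A' : Type u} [CommRing A'] [Algebra A A'] [Module.FaithfullyFlat A A']
    [Module.Projective A A'] : ∃ r : A' →ₗ[A] A, r 1 = 1 := by
  let I : Ideal A := LinearMap.range (LinearMap.applyₗ (1 : A') : (A' →ₗ[A] A) →ₗ[A] A)
  obtain ⟨s, hs⟩ := Module.projective_def'.1 (inferInstance : Module.Projective A A')
  have h1 : (1 : A') ∈ I.map (algebraMap A A') := by
    have h := LinearMap.congr_fun hs (1 : A')
    rw [LinearMap.comp_apply, LinearMap.id_apply, Finsupp.linearCombination_apply] at h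
    rw [← h]
    refine Ideal.sum_mem _ fun i _ => ?_
    dsimp only
    rw [Algebra.smul_def]
    exact Ideal.mul_mem_right _ _ (Ideal.mem_map_of_mem _ ⟨(Finsupp.lapply i).comp s, rfl⟩)
  have : (1 : A) ∈ I := by
    rw [← Ideal.comap_map_eq_self_of_faithfullyFlat (B := A') I, Ideal.mem_comap, map_one]
    exact h1
  exact this

theorem descent {A' : Type u} [CommRing A'] [Algebra A A'] [Module.FaithfullyFlat A A']
    [Module.Projective A A'] (𝔞 : Ideal A) (𝔟 : Ideal B)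
    (hAB : ∃ k : ℕ, (𝔞 ^ k).map (algebraMap A B) ≤ 𝔟)
    (hB : EGA41.IsFormallySmoothAdic A' (𝔞.map (algebraMap A A')) (A' ⊗[A] B)
        ((𝔞.map (algebraMap A A')).map (algebraMap A' (A' ⊗[A] B)) ⊔
          𝔟.map (Algebra.TensorProduct.includeRight : B →ₐ[A] A' ⊗[A] B).toRingHom)) :
    EGA41.IsFormallySmoothAdic A 𝔞 B 𝔟 := by
  refine PP16Lib.formallySmoothAdic_of_adicSmooth fun C _ _ J hJ u hu => ?_
  obtain ⟨m, hm⟩ := hu
  obtain ⟨k, hk⟩ := hAB
  let K := k * m * 2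
  have hJK : (𝔞 ^ K).map (algebraMap A C) = ⊥ := by
    have h1 : (𝔞 ^ (k * m)).map (algebraMap A C) ≤ J := Ideal.map_le_iff_le_comap.mpr fun a ha => by
      have h2 : algebraMap A B a ∈ 𝔟 ^ m := by
        rw [pow_mul] at ha
        have := Ideal.mem_map_of_mem (algebraMap A B) ha
        rw [Ideal.map_pow] at this
        exact Ideal.pow_right_mono hk m this
      have := hm _ h2
      rw [AlgHom.commutes, IsScalarTower.algebraMap_apply A C (C ⧸ J), Ideal.Quotient.algebraMap_eq,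
        Ideal.Quotient.eq_zero_iff_mem] at this
      exact this
    rw [pow_mul, Ideal.map_pow, eq_bot_iff, ← hJ]
    exact Ideal.pow_right_mono h1 2
  let π : A' ⊗[A] C →ₐ[A'] A' ⊗[A] (C ⧸ J) :=
    Algebra.TensorProduct.map (AlgHom.id A' A') (Ideal.Quotient.mkₐ A J)
  have hπ : Function.Surjective π := by
    intro y
    induction y using TensorProduct.induction_on with
    | zero => exact ⟨0, map_zero π⟩
    | tmul a c =>
      obtain ⟨c, rfl⟩ := Ideal.Quotient.mk_surjective c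
      exact ⟨a ⊗ₜ c, rfl⟩
    | add y z hy hz =>
      obtain ⟨y, rfl⟩ := hy
      obtain ⟨z, rfl⟩ := hz
      exact ⟨y + z, map_add π y z⟩
  have hker : RingHom.ker π = J.map (Algebra.TensorProduct.includeRight : C →ₐ[A] A' ⊗[A] C) := by
    have h := Algebra.TensorProduct.lTensor_ker (R := A) (A := A') (Ideal.Quotient.mkₐ A J)
      Ideal.Quotient.mk_surjective
    rw [show RingHom.ker (Ideal.Quotient.mkₐ A J) = J from Ideal.mk_ker] at h
    exact h
  have hker2 : RingHom.ker π ^ 2 = ⊥ := by rw [hker, ← Ideal.map_pow, hJ, Ideal.map_bot]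
  have hC' : ∃ n : ℕ, ((𝔞.map (algebraMap A A')) ^ n).map (algebraMap A' (A' ⊗[A] C)) = ⊥ := by
    refine ⟨K, ?_⟩
    rw [← Ideal.map_pow, Ideal.map_map, ← IsScalarTower.algebraMap_eq,
      show algebraMap A (A' ⊗[A] C) =
        (Algebra.TensorProduct.includeRight : C →ₐ[A] A' ⊗[A] C).toRingHom.comp (algebraMap A C)
        from RingHom.ext fun a =>
          ((Algebra.TensorProduct.includeRight : C →ₐ[A] A' ⊗[A] C).commutes a).symm, ← Ideal.map_map, hJK, Ideal.map_bot]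
  let ψ : A' ⊗[A] B →ₐ[A'] A' ⊗[A] (C ⧸ J) := Algebra.TensorProduct.map (AlgHom.id A' A') u
  have hψ : ∃ n : ℕ, ∀ x ∈ ((𝔞.map (algebraMap A A')).map (algebraMap A' (A' ⊗[A] B)) ⊔
      𝔟.map (Algebra.TensorProduct.includeRight : B →ₐ[A] A' ⊗[A] B).toRingHom) ^ n, ψ x = 0 := by
    refine ⟨K + m, fun x hx => ?_⟩
    have hle : ((𝔞.map (algebraMap A A')).map (algebraMap A' (A' ⊗[A] B))) ^ K ⊔
        (𝔟.map (Algebra.TensorProduct.includeRight : B →ₐ[A] A' ⊗[A] B).toRingHom) ^ m ≤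
          RingHom.ker ψ := by
      refine sup_le ?_ ?_
      · rw [← Ideal.map_pow, ← Ideal.map_pow, Ideal.map_map, Ideal.map_le_iff_le_comap]
        intro a ha
        rw [Ideal.mem_comap, RingHom.mem_ker, RingHom.comp_apply,
          ← IsScalarTower.algebraMap_apply]
        change (ψ.restrictScalars A) (algebraMap A (A' ⊗[A] B) a) = 0
        rw [AlgHom.commutes,
          ← (Algebra.TensorProduct.includeRight : C ⧸ J →ₐ[A] A' ⊗[A] (C ⧸ J)).commutes,
          IsScalarTower.algebraMap_apply A C (C ⧸ J),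
          show algebraMap A C a = 0 from by
            rw [← Ideal.mem_bot, ← hJK]; exact Ideal.mem_map_of_mem _ ha,
          map_zero, map_zero]
      · rw [← Ideal.map_pow, Ideal.map_le_iff_le_comap]
        intro b hb
        rw [Ideal.mem_comap, RingHom.mem_ker]
        change ψ (1 ⊗ₜ b) = 0
        rw [Algebra.TensorProduct.map_tmul, hm b hb, TensorProduct.tmul_zero]
    exact hle (Ideal.sup_pow_add_le_pow_sup_pow hx)
  obtain ⟨χ, hχ, -⟩ := PP16Lib.exists_lift_top hB π hπ ⟨2, hker2⟩ hC' ψ hψ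
  obtain ⟨r, hr⟩ := exists_retraction (A := A) (A' := A')
  -- the retraction on `A' ⊗ C`
  let R : A' ⊗[A] C →ₗ[A] C := (TensorProduct.lid A C).toLinearMap.comp (r.rTensor C)
  have hR : ∀ (a : A') (c : C), R (a ⊗ₜ c) = r a • c := fun a c => by simp [R]
  have hRmul : ∀ (c : C) (z : A' ⊗[A] C), R ((1 ⊗ₜ c) * z) = c * R z := by
    intro c z
    induction z using TensorProduct.induction_on with
    | zero => simp
    | tmul a d => rw [Algebra.TensorProduct.tmul_mul_tmul, one_mul, hR, hR, mul_smul_comm]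
    | add y z hy hz => rw [mul_add, map_add, map_add, mul_add, hy, hz]
  have hR1 : ∀ c : C, R ((1 : A') ⊗ₜ c) = c := fun c => by rw [hR, hr, one_smul]
  have hRker : ∀ p ∈ RingHom.ker π, R p ∈ J := by
    intro p hp
    rw [hker] at hp
    refine Submodule.span_induction ?_ ?_ ?_ ?_ hp
    · rintro _ ⟨c, hc, rfl⟩
      change R (1 ⊗ₜ c) ∈ J
      rw [hR1]
      exact hc
    · rw [map_zero]; exact zero_mem J
    · intro y z _ _ hy hz
      rw [map_add]
      exact add_mem hy hz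
    · intro y z _ hz
      have hy : y ∈ (⊤ : Submodule A (A' ⊗[A] C)) := trivial
      rw [← TensorProduct.span_tmul_eq_top] at hy
      rw [smul_eq_mul]
      induction hy using Submodule.span_induction with
      | mem t ht =>
        obtain ⟨a, c, rfl⟩ := ht
        have hz' : ∀ w ∈ RingHom.ker π, ∀ a : A', R ((a ⊗ₜ (1 : C)) * w) ∈ J := by
          intro w hw a
          rw [hker] at hw
          refine Submodule.span_induction ?_ ?_ ?_ ?_ hw a
          · rintro _ ⟨d, hd, rfl⟩ a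
            change R ((a ⊗ₜ (1 : C)) * (1 ⊗ₜ d)) ∈ J
            rw [Algebra.TensorProduct.tmul_mul_tmul, mul_one, one_mul, hR]
            exact Submodule.smul_of_tower_mem J _ hd
          · intro a; rw [mul_zero, map_zero]; exact zero_mem J
          · intro y z _ _ hy hz a
            rw [mul_add, map_add]
            exact add_mem (hy a) (hz a)
          · intro y z _ hz a
            have hy : y ∈ (⊤ : Submodule A (A' ⊗[A] C)) := trivial
            rw [← TensorProduct.span_tmul_eq_top] at hy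
            rw [smul_eq_mul]
            induction hy using Submodule.span_induction with
            | mem t ht =>
              obtain ⟨b, c, rfl⟩ := ht
              rw [show (a ⊗ₜ[A] (1 : C)) * (b ⊗ₜ c * z) = (1 ⊗ₜ c) * ((a * b) ⊗ₜ (1 : C) * z) by
                rw [← mul_assoc, ← mul_assoc]; congr 1
                simp [Algebra.TensorProduct.tmul_mul_tmul],
                hRmul]
              exact Ideal.mul_mem_left J c (hz (a * b))
            | zero => rw [zero_mul, mul_zero, map_zero]; exact zero_mem J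
            | add s t _ _ hs ht => rw [add_mul, mul_add, map_add]; exact add_mem hs ht
            | smul r t _ ht =>
              rw [smul_mul_assoc, mul_smul_comm, map_smul]
              exact Submodule.smul_of_tower_mem J _ ht
        rw [show (a ⊗ₜ[A] c) * z = (1 ⊗ₜ c) * (a ⊗ₜ (1 : C) * z) by
          rw [← mul_assoc]; congr 1; simp [Algebra.TensorProduct.tmul_mul_tmul], hRmul]
        refine Ideal.mul_mem_left J c (hz' z ?_ a)
        rw [hker]
        exact ‹_ ∈ Submodule.span _ _›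
      | zero => rw [zero_mul, map_zero]; exact zero_mem J
      | add s t _ _ hs ht => rw [add_mul, map_add]; exact add_mem hs ht
      | smul r t _ ht =>
        rw [smul_mul_assoc, map_smul]
        exact Submodule.smul_of_tower_mem J _ ht
  let f : B → A' ⊗[A] C := fun b => χ (1 ⊗ₜ b)
  have hf : ∀ (b : B) (c : C), Ideal.Quotient.mk J c = u b → f b - (1 : A') ⊗ₜ c ∈ RingHom.ker π := by
    intro b c hc
    rw [RingHom.mem_ker, map_sub, hχ]
    change ψ (1 ⊗ₜ b) - π (1 ⊗ₜ c) = 0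
    rw [Algebra.TensorProduct.map_tmul, Algebra.TensorProduct.map_tmul]
    change (1 : A') ⊗ₜ[A] u b - 1 ⊗ₜ Ideal.Quotient.mk J c = 0
    rw [hc, sub_self]
  let F : B →ₐ[A] A' ⊗[A] C := (χ.restrictScalars A).comp Algebra.TensorProduct.includeRight
  refine ⟨AlgHom.ofLinearMap (R.comp F.toLinearMap) ?_ ?_, AlgHom.ext fun b => ?_⟩
  · rw [LinearMap.comp_apply, AlgHom.toLinearMap_apply, map_one]
    exact hR1 1
  · intro x y
    obtain ⟨c, hc⟩ := Ideal.Quotient.mk_surjective (u x)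
    obtain ⟨d, hd⟩ := Ideal.Quotient.mk_surjective (u y)
    simp only [LinearMap.comp_apply, AlgHom.toLinearMap_apply, map_mul]
    obtain ⟨p, hp, hFx⟩ : ∃ p ∈ RingHom.ker π, F x = 1 ⊗ₜ c + p :=
      ⟨_, hf x c hc, (add_sub_cancel _ _).symm⟩
    obtain ⟨q, hq, hFy⟩ : ∃ q ∈ RingHom.ker π, F y = 1 ⊗ₜ d + q :=
      ⟨_, hf y d hd, (add_sub_cancel _ _).symm⟩
    have hpq : p * q = 0 := by
      rw [← Ideal.mem_bot, ← hker2, pow_two]
      exact Ideal.mul_mem_mul hp hq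
    have hpq' : R p * R q = 0 := by
      rw [← Ideal.mem_bot, ← hJ, pow_two]
      exact Ideal.mul_mem_mul (hRker p hp) (hRker q hq)
    rw [hFx, hFy, add_mul, mul_add, mul_add, hpq, add_zero,
      Algebra.TensorProduct.tmul_mul_tmul, one_mul, map_add, map_add, map_add, map_add,
      mul_comm p, hRmul, hRmul, hR1, hR1, hR1]
    linear_combination -hpq'
  · obtain ⟨c, hc⟩ := Ideal.Quotient.mk_surjective (u b)
    rw [AlgHom.comp_apply, AlgHom.ofLinearMap_apply, LinearMap.comp_apply, AlgHom.toLinearMap_apply,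
      Ideal.Quotient.mkₐ_eq_mk, ← hc, Ideal.Quotient.mk_eq_mk_iff_sub_mem, ← hR1 c, ← map_sub]
    exact hRker _ (hf b c hc)

/-! ### Reduction modulo the ideal of definition -/

theorem quotient_of (𝔞 : Ideal A) (𝔟 : Ideal B) (h : EGA41.IsFormallySmoothAdic A 𝔞 B 𝔟) :
    EGA41.IsFormallySmoothAdic (A ⧸ 𝔞) ⊥ (B ⧸ 𝔞.map (algebraMap A B))
      (𝔟.map (Ideal.Quotient.mk (𝔞.map (algebraMap A B)))) := by
  intro C _ _ J hJ _ u ⟨m, hm⟩
  letI : Algebra A C := Algebra.compHom C (Ideal.Quotient.mk 𝔞)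
  haveI : IsScalarTower A (A ⧸ 𝔞) C := IsScalarTower.of_algebraMap_eq fun _ => rfl
  have h0 : ∀ a ∈ 𝔞, algebraMap A C a = 0 := fun a ha => by
    rw [IsScalarTower.algebraMap_apply A (A ⧸ 𝔞) C, Ideal.Quotient.algebraMap_eq,
      Ideal.Quotient.eq_zero_iff_mem.2 ha, map_zero]
  obtain ⟨v, hv⟩ := h C J hJ ⟨1, by
      rw [pow_one, eq_bot_iff, Ideal.map_le_iff_le_comap]; exact h0⟩
    ((u.restrictScalars A).comp (Ideal.Quotient.mkₐ A _)) ⟨m, fun x hx => hm _ (by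
      rw [← Ideal.map_pow]
      exact Ideal.mem_map_of_mem _ hx)⟩
  have hle : 𝔞.map (algebraMap A B) ≤ RingHom.ker v.toRingHom := by
    rw [Ideal.map_le_iff_le_comap]
    intro a ha
    rw [Ideal.mem_comap, RingHom.mem_ker]
    change v (algebraMap A B a) = 0
    rw [AlgHom.commutes, h0 a ha]
  refine ⟨{ toRingHom := Ideal.Quotient.lift _ v.toRingHom hle, commutes' := fun a => ?_ },
    AlgHom.ext fun x => ?_⟩
  · obtain ⟨a, rfl⟩ := Ideal.Quotient.mk_surjective a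
    exact v.commutes a
  · obtain ⟨x, rfl⟩ := Ideal.Quotient.mk_surjective x
    exact AlgHom.congr_fun hv x

/-- Lifting into an extension of `P` whose kernel meets `𝔞 E` trivially. -/
theorem lift_of_extension (𝔞 : Ideal A) (𝔟 : Ideal B)
    (h₀ : EGA41.IsFormallySmoothAdic (A ⧸ 𝔞) ⊥ (B ⧸ 𝔞.map (algebraMap A B))
        (𝔟.map (Ideal.Quotient.mk (𝔞.map (algebraMap A B)))))
    {E P : Type u} [CommRing E] [CommRing P] [Algebra A E] [Algebra A P] (s : E →ₐ[A] P)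
    (hs : Function.Surjective s) (hsq : RingHom.ker s ^ 2 = ⊥)
    (hinj : ∀ z ∈ 𝔞.map (algebraMap A E), s z = 0 → z = 0)
    (q : B →ₐ[A] P) (hq : ∃ M : ℕ, ∀ x ∈ 𝔟 ^ M, q x = 0) :
    ∃ χ : B →ₐ[A] E, ∀ x, s (χ x) = q x := by
  obtain ⟨M, hM⟩ := hq
  let I₀ : Ideal E := 𝔞.map (algebraMap A E)
  let I₁ : Ideal P := 𝔞.map (algebraMap A P)
  have hI : I₀.map s.toRingHom = I₁ := by
    rw [Ideal.map_map]
    congr 1
    exact s.comp_algebraMap
  have hle : I₀ ≤ I₁.comap s.toRingHom := Ideal.map_le_iff_le_comap.1 hI.le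
  letI : Algebra (A ⧸ 𝔞) (E ⧸ I₀) :=
    (Ideal.Quotient.lift 𝔞 ((Ideal.Quotient.mk I₀).comp (algebraMap A E)) fun a ha =>
      Ideal.Quotient.eq_zero_iff_mem.2 (Ideal.mem_map_of_mem _ ha)).toAlgebra
  letI : Algebra (A ⧸ 𝔞) (P ⧸ I₁) :=
    (Ideal.Quotient.lift 𝔞 ((Ideal.Quotient.mk I₁).comp (algebraMap A P)) fun a ha =>
      Ideal.Quotient.eq_zero_iff_mem.2 (Ideal.mem_map_of_mem _ ha)).toAlgebra
  let π₀ : E ⧸ I₀ →ₐ[A ⧸ 𝔞] P ⧸ I₁ :=
    { toRingHom := Ideal.quotientMap I₁ s.toRingHom hle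
      commutes' := fun a => by
        obtain ⟨a, rfl⟩ := Ideal.Quotient.mk_surjective a
        change Ideal.Quotient.mk I₁ (s (algebraMap A E a)) =
          Ideal.Quotient.mk I₁ (algebraMap A P a)
        rw [AlgHom.commutes] }
  have hsur : Function.Surjective π₀ := fun y => by
    obtain ⟨y, rfl⟩ := Ideal.Quotient.mk_surjective y
    obtain ⟨e, rfl⟩ := hs y
    exact ⟨Ideal.Quotient.mk I₀ e, rfl⟩
  have hker : ∀ z : E ⧸ I₀, π₀ z = 0 → ∃ j : E, s j = 0 ∧ Ideal.Quotient.mk I₀ j = z := by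
    intro z hz
    obtain ⟨z, rfl⟩ := Ideal.Quotient.mk_surjective z
    have hz' : s z ∈ I₁ := Ideal.Quotient.eq_zero_iff_mem.1 hz
    rw [← hI, Ideal.mem_map_iff_of_surjective s.toRingHom hs] at hz'
    obtain ⟨i, hi, hi'⟩ := hz'
    refine ⟨z - i, by rw [map_sub, sub_eq_zero]; exact hi'.symm, ?_⟩
    rw [map_sub, Ideal.Quotient.eq_zero_iff_mem.2 hi, sub_zero]
  have hnil : IsNilpotent (RingHom.ker π₀) := by
    refine ⟨2, ?_⟩
    rw [Ideal.zero_eq_bot, eq_bot_iff, pow_two, Ideal.mul_le]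
    intro x hx y hy
    obtain ⟨j, hj, rfl⟩ := hker x hx
    obtain ⟨k, hk, rfl⟩ := hker y hy
    have : j * k = 0 := by
      rw [← Ideal.mem_bot, ← hsq, pow_two]
      exact Ideal.mul_mem_mul hj hk
    rw [Ideal.mem_bot, ← map_mul, this, map_zero]
  have hq0 : ∀ x ∈ 𝔞.map (algebraMap A B), Ideal.Quotient.mk I₁ (q x) = 0 := fun x hx =>
    Ideal.Quotient.eq_zero_iff_mem.2 (by
      have := Ideal.mem_map_of_mem q.toRingHom hx
      rw [Ideal.map_map, show q.toRingHom.comp (algebraMap A B) = algebraMap A P from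
        q.comp_algebraMap] at this
      exact this)
  let q₀ : B ⧸ 𝔞.map (algebraMap A B) →ₐ[A ⧸ 𝔞] P ⧸ I₁ :=
    { toRingHom := Ideal.Quotient.lift _ ((Ideal.Quotient.mk I₁).comp q.toRingHom) hq0
      commutes' := fun a => by
        obtain ⟨a, rfl⟩ := Ideal.Quotient.mk_surjective a
        change Ideal.Quotient.mk I₁ (q (algebraMap A B a)) =
          Ideal.Quotient.mk I₁ (algebraMap A P a)
        rw [AlgHom.commutes] }
  obtain ⟨v₀, hv₀, -⟩ := PP16Lib.exists_lift_top h₀ π₀ hsur hnil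
    ⟨1, by rw [pow_one, Ideal.map_bot]⟩ q₀ ⟨M, fun x hx => by
      rw [← Ideal.map_pow, Ideal.mem_map_iff_of_surjective _ Ideal.Quotient.mk_surjective] at hx
      obtain ⟨y, hy, rfl⟩ := hx
      change Ideal.Quotient.mk I₁ (q y) = 0
      rw [hM y hy, map_zero]⟩
  have hex : ∀ x : B, ∃ e : E, Ideal.Quotient.mk I₀ e = v₀ (Ideal.Quotient.mk _ x) ∧ s e = q x := by
    intro x
    obtain ⟨e₁, he₁⟩ := hs (q x)
    obtain ⟨j, hj, hj'⟩ := hker (v₀ (Ideal.Quotient.mk _ x) - Ideal.Quotient.mk I₀ e₁) (by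
      rw [map_sub, hv₀]
      change Ideal.Quotient.mk I₁ (q x) - Ideal.Quotient.mk I₁ (s e₁) = 0
      rw [he₁, sub_self])
    exact ⟨e₁ + j, by rw [map_add, hj', add_sub_cancel], by rw [map_add, he₁, hj, add_zero]⟩
  have huniq : ∀ (x : B) (e e' : E), Ideal.Quotient.mk I₀ e = Ideal.Quotient.mk I₀ e' →
      s e = q x → s e' = q x → e = e' := fun x e e' h he he' =>
    sub_eq_zero.1 (hinj _ (Ideal.Quotient.eq.1 h) (by rw [map_sub, he, he', sub_self]))
  choose χ hχ1 hχ2 using hex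
  exact ⟨{ toFun := χ
           map_one' := huniq 1 _ _ (by rw [hχ1, map_one, map_one, map_one]) (hχ2 1)
             ((map_one s).trans (map_one q).symm)
           map_mul' := fun x y => huniq (x * y) _ _
             (by rw [hχ1, map_mul, map_mul, map_mul, hχ1, hχ1]) (hχ2 _)
             (by rw [map_mul, hχ2, hχ2, map_mul])
           map_zero' := huniq 0 _ _ (by rw [hχ1, map_zero, map_zero, map_zero]) (hχ2 0)
             ((map_zero s).trans (map_zero q).symm)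
           map_add' := fun x y => huniq (x + y) _ _
             (by rw [hχ1, map_add, map_add, map_add, hχ1, hχ1]) (hχ2 _)
             (by rw [map_add, hχ2, hχ2, map_add])
           commutes' := fun a => huniq (algebraMap A B a) _ _ (by
               rw [hχ1]
               exact v₀.commutes (Ideal.Quotient.mk 𝔞 a)) (hχ2 _)
             ((s.commutes a).trans (q.commutes a).symm) }, hχ2⟩

/-- The lifting step for a square-zero ideal killed by `𝔞`. -/
theorem step (𝔞 : Ideal A) (𝔟 : Ideal B)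
    (hproj : ∀ (n : ℕ) (P Q : Type u) [AddCommGroup P] [Module A P] [AddCommGroup Q] [Module A Q],
      (∀ a ∈ 𝔞 ^ n, ∀ y : P, a • y = 0) → (∀ a ∈ 𝔞 ^ n, ∀ y : Q, a • y = 0) →
      ∀ f : P →ₗ[A] Q, Function.Surjective f → ∀ v : B →ₗ[A] Q, (∃ m : ℕ, ∀ x ∈ 𝔟 ^ m, v x = 0) →
        ∃ w : B →ₗ[A] P, (∃ m : ℕ, ∀ x ∈ 𝔟 ^ m, w x = 0) ∧ f ∘ₗ w = v)
    (h₀ : EGA41.IsFormallySmoothAdic (A ⧸ 𝔞) ⊥ (B ⧸ 𝔞.map (algebraMap A B))
        (𝔟.map (Ideal.Quotient.mk (𝔞.map (algebraMap A B)))))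
    {C C' : Type u} [CommRing C] [CommRing C'] [Algebra A C] [Algebra A C'] (π : C →ₐ[A] C')
    (hπ : Function.Surjective π) (hsq : RingHom.ker π ^ 2 = ⊥)
    (hann : ∀ a ∈ 𝔞, ∀ x ∈ RingHom.ker π, algebraMap A C a * x = 0)
    (hC : ∃ K : ℕ, (𝔞 ^ K).map (algebraMap A C) = ⊥)
    (u : B →ₐ[A] C') (hu : ∃ m : ℕ, ∀ x ∈ 𝔟 ^ m, u x = 0) :
    ∃ v : B →ₐ[A] C, (∀ x, π (v x) = u x) ∧ ∃ m : ℕ, ∀ x ∈ 𝔟 ^ m, v x = 0 := by
  obtain ⟨K, hK⟩ := hC
  obtain ⟨m, hm⟩ := hu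
  have hP : ∀ a ∈ 𝔞 ^ K, ∀ y : C, a • y = 0 := fun a ha y => by
    rw [Algebra.smul_def, show algebraMap A C a = 0 from by
      rw [← Ideal.mem_bot, ← hK]; exact Ideal.mem_map_of_mem _ ha, zero_mul]
  have hQ : ∀ a ∈ 𝔞 ^ K, ∀ y : C', a • y = 0 := fun a ha y => by
    obtain ⟨y, rfl⟩ := hπ y
    rw [← map_smul, hP a ha y, map_zero]
  obtain ⟨w, ⟨m', hm'⟩, hw⟩ := hproj K C C' hP hQ π.toLinearMap hπ u.toLinearMap ⟨m, hm⟩
  have hw' : ∀ x, π (w x) = u x := LinearMap.congr_fun hw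
  let M := max m m'
  have huM : ∀ x ∈ 𝔟 ^ M, u x = 0 := fun x hx =>
    hm x (Ideal.pow_le_pow_right (le_max_left _ _) hx)
  have hwM : ∀ x ∈ 𝔟 ^ M, w x = 0 := fun x hx =>
    hm' x (Ideal.pow_le_pow_right (le_max_right _ _) hx)
  let ub : B ⧸ 𝔟 ^ M →ₐ[A] C' := Ideal.Quotient.liftₐ _ u huM
  let q : B →ₐ[A] B ⧸ 𝔟 ^ M := Ideal.Quotient.mkₐ A _
  let E : Subalgebra A (C × (B ⧸ 𝔟 ^ M)) :=
    AlgHom.equalizer (π.comp (AlgHom.fst A C _)) (ub.comp (AlgHom.snd A C _))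
  have memE : ∀ z : C × (B ⧸ 𝔟 ^ M), z ∈ E ↔ π z.1 = ub z.2 := fun z => Iff.rfl
  have hI₀ : ∀ z : E, z ∈ (𝔞 • ⊤ : Submodule A E) → ∃ y : B, z.1 = (w y, q y) := by
    intro z hz
    refine Submodule.smul_induction_on hz (fun a ha t _ => ?_) ?_
    · obtain ⟨x, hx⟩ := Ideal.Quotient.mk_surjective t.1.2
      refine ⟨a • x, Prod.ext ?_ ?_⟩
      · change a • t.1.1 = w (a • x)
        rw [map_smul, ← sub_eq_zero, ← smul_sub, Algebra.smul_def]
        refine hann a ha _ ?_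
        rw [RingHom.mem_ker, map_sub, hw', (memE _).1 t.2, ← hx, sub_eq_zero]
        rfl
      · change a • t.1.2 = q (a • x)
        rw [map_smul, ← hx]
        rfl
    · rintro s t ⟨y, hy'⟩ ⟨y₂, hy₂'⟩
      refine ⟨y + y₂, ?_⟩
      rw [Subalgebra.coe_add, hy', hy₂', map_add, map_add]
      rfl
  let sndE : E →ₐ[A] B ⧸ 𝔟 ^ M := (AlgHom.snd A C _).comp E.val
  have hsur : Function.Surjective sndE := fun y => by
    obtain ⟨x, rfl⟩ := Ideal.Quotient.mk_surjective y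
    exact ⟨⟨(w x, q x), (memE _).2 (hw' x)⟩, rfl⟩
  have hk : ∀ e : E, e.1.2 = 0 → e.1.1 ∈ RingHom.ker π := fun e he => by
    rw [RingHom.mem_ker, (memE _).1 e.2, he, map_zero]
  have hsqE : RingHom.ker sndE ^ 2 = ⊥ := by
    rw [pow_two, eq_bot_iff, Ideal.mul_le]
    intro s hs t ht
    have hs' : s.1.2 = 0 := hs
    have ht' : t.1.2 = 0 := ht
    rw [Ideal.mem_bot]
    refine Subtype.ext (Prod.ext ?_ ?_)
    · change s.1.1 * t.1.1 = 0
      rw [← Ideal.mem_bot, ← hsq, pow_two]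
      exact Ideal.mul_mem_mul (hk s hs') (hk t ht')
    · change s.1.2 * t.1.2 = 0
      rw [hs', zero_mul]
  have hinj : ∀ z ∈ 𝔞.map (algebraMap A E), sndE z = 0 → z = 0 := by
    intro z hz hz2
    obtain ⟨y, hy⟩ := hI₀ z (by rw [Ideal.smul_top_eq_map]; exact hz)
    have hz2' : z.1.2 = 0 := hz2
    have h2 : q y = 0 := by rw [← hz2', hy]
    have h1 : w y = 0 := hwM y (Ideal.Quotient.eq_zero_iff_mem.1 h2)
    exact Subtype.ext (by rw [hy, h1, h2]; rfl)
  obtain ⟨χ, hχ⟩ := lift_of_extension 𝔞 𝔟 h₀ sndE hsur hsqE hinj q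
    ⟨M, fun x hx => Ideal.Quotient.eq_zero_iff_mem.2 hx⟩
  have hπχ : ∀ x, π (χ x).1.1 = u x := fun x => by
    rw [(memE _).1 (χ x).2, show (χ x).1.2 = q x from hχ x]
    rfl
  refine ⟨((AlgHom.fst A C _).comp E.val).comp χ, hπχ, M + M, fun x hx => ?_⟩
  rw [pow_add] at hx
  refine Submodule.mul_induction_on hx (fun a ha b hb => ?_) (fun a b ha hb => ?_)
  · rw [map_mul]
    change (χ a).1.1 * (χ b).1.1 = 0
    rw [← Ideal.mem_bot, ← hsq, pow_two]
    exact Ideal.mul_mem_mul ((hπχ a).trans (huM a ha)) ((hπχ b).trans (huM b hb))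
  · rw [map_add, ha, hb, add_zero]

/-- The lifting step along `C ⧸ I → C ⧸ I'`. -/
theorem step_quotient (𝔞 : Ideal A) (𝔟 : Ideal B)
    (hproj : ∀ (n : ℕ) (P Q : Type u) [AddCommGroup P] [Module A P] [AddCommGroup Q] [Module A Q],
      (∀ a ∈ 𝔞 ^ n, ∀ y : P, a • y = 0) → (∀ a ∈ 𝔞 ^ n, ∀ y : Q, a • y = 0) →
      ∀ f : P →ₗ[A] Q, Function.Surjective f → ∀ v : B →ₗ[A] Q, (∃ m : ℕ, ∀ x ∈ 𝔟 ^ m, v x = 0) →
        ∃ w : B →ₗ[A] P, (∃ m : ℕ, ∀ x ∈ 𝔟 ^ m, w x = 0) ∧ f ∘ₗ w = v)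
    (h₀ : EGA41.IsFormallySmoothAdic (A ⧸ 𝔞) ⊥ (B ⧸ 𝔞.map (algebraMap A B))
        (𝔟.map (Ideal.Quotient.mk (𝔞.map (algebraMap A B)))))
    {C : Type u} [CommRing C] [Algebra A C] (I I' : Ideal C) (hle : I ≤ I')
    (hsq : I' * I' ≤ I) (hann : ∀ a ∈ 𝔞, ∀ c ∈ I', algebraMap A C a * c ∈ I)
    (hC : ∃ K : ℕ, (𝔞 ^ K).map (algebraMap A C) = ⊥)
    (v : B →ₐ[A] C ⧸ I') (hv : ∃ m : ℕ, ∀ x ∈ 𝔟 ^ m, v x = 0) :
    ∃ v' : B →ₐ[A] C ⧸ I, (∀ (x : B) (c : C), Ideal.Quotient.mk I c = v' x →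
      Ideal.Quotient.mk I' c = v x) ∧ ∃ m : ℕ, ∀ x ∈ 𝔟 ^ m, v' x = 0 := by
  let π : C ⧸ I →ₐ[A] C ⧸ I' := Ideal.Quotient.factorₐ A hle
  have hπ : Function.Surjective π := Ideal.Quotient.factor_surjective hle
  have hker : ∀ z : C ⧸ I, z ∈ RingHom.ker π → ∃ c ∈ I', Ideal.Quotient.mk I c = z := fun z hz => by
    obtain ⟨c, rfl⟩ := Ideal.Quotient.mk_surjective z
    exact ⟨c, Ideal.Quotient.eq_zero_iff_mem.1 hz, rfl⟩
  have hsq' : RingHom.ker π ^ 2 = ⊥ := by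
    rw [pow_two, eq_bot_iff, Ideal.mul_le]
    intro x hx y hy
    obtain ⟨c, hc, rfl⟩ := hker x hx
    obtain ⟨d, hd, rfl⟩ := hker y hy
    rw [Ideal.mem_bot, ← map_mul, Ideal.Quotient.eq_zero_iff_mem]
    exact hsq (Ideal.mul_mem_mul hc hd)
  have hann' : ∀ a ∈ 𝔞, ∀ x ∈ RingHom.ker π, algebraMap A (C ⧸ I) a * x = 0 := fun a ha x hx => by
    obtain ⟨c, hc, rfl⟩ := hker x hx
    rw [IsScalarTower.algebraMap_apply A C (C ⧸ I), Ideal.Quotient.algebraMap_eq, ← map_mul,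
      Ideal.Quotient.eq_zero_iff_mem]
    exact hann a ha c hc
  obtain ⟨K, hK⟩ := hC
  have hC' : ∃ K : ℕ, (𝔞 ^ K).map (algebraMap A (C ⧸ I)) = ⊥ :=
    ⟨K, by rw [IsScalarTower.algebraMap_eq A C (C ⧸ I), ← Ideal.map_map, hK, Ideal.map_bot]⟩
  obtain ⟨v', hv1, hv2⟩ := step 𝔞 𝔟 hproj h₀ π hπ hsq' hann' hC' v hv
  refine ⟨v', fun x c hc => ?_, hv2⟩
  rw [← hv1 x, ← hc]
  rfl

/-- Formal smoothness from that of the reduction modulo the ideal of definition. -/
theorem of_quotient (𝔞 : Ideal A) (𝔟 : Ideal B) (hAB : ∃ k : ℕ, (𝔞 ^ k).map (algebraMap A B) ≤ 𝔟)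
    (hproj : ∀ (n : ℕ) (P Q : Type u) [AddCommGroup P] [Module A P] [AddCommGroup Q] [Module A Q],
      (∀ a ∈ 𝔞 ^ n, ∀ y : P, a • y = 0) → (∀ a ∈ 𝔞 ^ n, ∀ y : Q, a • y = 0) →
      ∀ f : P →ₗ[A] Q, Function.Surjective f → ∀ v : B →ₗ[A] Q, (∃ m : ℕ, ∀ x ∈ 𝔟 ^ m, v x = 0) →
        ∃ w : B →ₗ[A] P, (∃ m : ℕ, ∀ x ∈ 𝔟 ^ m, w x = 0) ∧ f ∘ₗ w = v)
    (h₀ : EGA41.IsFormallySmoothAdic (A ⧸ 𝔞) ⊥ (B ⧸ 𝔞.map (algebraMap A B))
        (𝔟.map (Ideal.Quotient.mk (𝔞.map (algebraMap A B))))) :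
    EGA41.IsFormallySmoothAdic A 𝔞 B 𝔟 := by
  refine PP16Lib.formallySmoothAdic_of_adicSmooth fun C _ _ J hJ u hu => ?_
  obtain ⟨k, hk⟩ := hAB
  obtain ⟨m, hm⟩ := hu
  obtain ⟨K, hK⟩ : ∃ K : ℕ, (𝔞 ^ K).map (algebraMap A C) = ⊥ := by
    refine ⟨k * m * 2, ?_⟩
    have h1 : (𝔞 ^ (k * m)).map (algebraMap A C) ≤ J := Ideal.map_le_iff_le_comap.mpr fun a ha => by
      have h2 : algebraMap A B a ∈ 𝔟 ^ m := by
        rw [pow_mul] at ha
        have := Ideal.mem_map_of_mem (algebraMap A B) ha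
        rw [Ideal.map_pow] at this
        exact Ideal.pow_right_mono hk m this
      have := hm _ h2
      rw [AlgHom.commutes, IsScalarTower.algebraMap_apply A C (C ⧸ J), Ideal.Quotient.algebraMap_eq,
        Ideal.Quotient.eq_zero_iff_mem] at this
      exact this
    rw [pow_mul, Ideal.map_pow, eq_bot_iff, ← hJ]
    exact Ideal.pow_right_mono h1 2
  let Ji : ℕ → Ideal C := fun i => (𝔞 ^ i).map (algebraMap A C) * J
  have hJi : ∀ i, ∃ v : B →ₐ[A] C ⧸ Ji i, (∃ n : ℕ, ∀ x ∈ 𝔟 ^ n, v x = 0) ∧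
      ∀ (x : B) (c : C), Ideal.Quotient.mk (Ji i) c = v x → Ideal.Quotient.mk J c = u x := by
    intro i
    induction i with
    | zero =>
      have h0 : J = Ji 0 := by
        simp only [Ji, pow_zero, Ideal.one_eq_top, Ideal.map_top, Ideal.top_mul]
      refine ⟨(Ideal.quotientEquivAlgOfEq A h0).toAlgHom.comp u,
        ⟨m, fun x hx => by rw [AlgHom.comp_apply, hm x hx, map_zero]⟩, fun x c hc => ?_⟩
      apply (Ideal.quotientEquivAlgOfEq A h0).injective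
      exact hc
    | succ i ih =>
      obtain ⟨v, hv, hv'⟩ := ih
      have hle : Ji (i + 1) ≤ Ji i :=
        Ideal.mul_mono_left (Ideal.map_mono (Ideal.pow_le_pow_right (Nat.le_succ i)))
      obtain ⟨v', hv1, hv2⟩ := step_quotient 𝔞 𝔟 hproj h₀ (Ji (i + 1)) (Ji i) hle
        (le_trans (le_trans (Ideal.mul_mono Ideal.mul_le_right Ideal.mul_le_right)
          (le_of_eq (by rw [← pow_two, hJ]))) bot_le)
        (fun a ha c hc => by
          change algebraMap A C a * c ∈ (𝔞 ^ (i + 1)).map (algebraMap A C) * J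
          rw [pow_succ', Ideal.map_mul, mul_assoc]
          exact Ideal.mul_mem_mul (Ideal.mem_map_of_mem _ ha) hc)
        ⟨K, hK⟩ v hv
      exact ⟨v', hv2, fun x c hc => hv' x c (hv1 x c hc)⟩
  obtain ⟨v, -, hv⟩ := hJi K
  have hK0 : Ji K = ⊥ := by simp only [Ji, hK, Ideal.bot_mul]
  let e : (C ⧸ Ji K) ≃ₐ[A] C :=
    (Ideal.quotientEquivAlgOfEq A hK0).trans (AlgEquiv.quotientBot A C)
  refine ⟨e.toAlgHom.comp v, AlgHom.ext fun x => ?_⟩
  obtain ⟨c, hc⟩ := Ideal.Quotient.mk_surjective (v x)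
  rw [AlgHom.comp_apply, AlgHom.comp_apply, AlgEquiv.coe_toAlgHom, ← hc]
  exact hv x c hc

end Groth.Agent.AdicFSDescent
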